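import Groth.Agent.L26.PicRep.Divisor
import Groth.Agent.L26.Elliptic.GroupLaw
import Groth.Agent.L20.DescLocus.RankBC
import Groth.Agent.L17.BC.GenApply
import Groth.Agent.S1026
import Groth.Agent.L26.Pic0.DegreeFun

/-!
# Rigidified classes and their good loci
-/

set_option autoImplicit false
set_option linter.style.haveILetI false
set_option linter.unusedSectionVars false
set_option backward.isDefEq.respectTransparency false
set_option backward.isDefEq.respectTransparency.types false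

universe u

open CategoryTheory CategoryTheory.Limits AlgebraicGeometry
open Groth.Agent.AbDualLib

noncomputable section

namespace Groth.Agent.L26.PicRep

open Groth.Agent.Elliptic
attribute [local instance] Groth.L08.Cube.clMonoid

/-- The units given by invertible modules. -/
def invU (Y : Scheme.{u}) : Subgroup (PicF.Cl Y)ˣ where
  carrier := {x | PicF.IsInvertibleCl (x : PicF.Cl Y) ∧ PicF.IsInvertibleCl ((x⁻¹ : (PicF.Cl Y)ˣ) : PicF.Cl Y)}
  one_mem' := by
    have h : PicF.IsInvertibleCl (1 : PicF.Cl Y) := ⟨_, rfl, Groth.L18.Ample.isInvertible_structureModule Y⟩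
    exact ⟨by rw [Units.val_one]; exact h, by rw [inv_one, Units.val_one]; exact h⟩
  mul_mem' := by
    rintro x y ⟨hx, hx'⟩ ⟨hy, hy'⟩
    exact ⟨by rw [Units.val_mul]; exact isInvertibleCl_mulCl hx hy,
      by rw [mul_inv, Units.val_mul]; exact isInvertibleCl_mulCl hx' hy'⟩
  inv_mem' := by
    rintro x ⟨hx, hx'⟩
    exact ⟨hx', by rw [inv_inv]; exact hx⟩

theorem exists_invU {Y : Scheme.{u}} {c : PicF.Cl Y} (hc : PicF.IsInvertibleCl c) :
    ∃ x ∈ invU Y, (x : PicF.Cl Y) = c := by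
  obtain ⟨b, hb, hcb⟩ := Groth.L08.Cube.exists_inverseCl hc
  exact ⟨⟨c, b, hcb, (mul_comm b c).trans hcb⟩, ⟨hc, hb⟩, rfl⟩

theorem map_mem_invU {Y Z : Scheme.{u}} (v : Z ⟶ Y) {x : (PicF.Cl Y)ˣ} (hx : x ∈ invU Y) :
    Units.map (Groth.L08.Cube.pullClHom v) x ∈ invU Z :=
  ⟨PicLoc.isInvertibleCl_pullCl v hx.1, PicLoc.isInvertibleCl_pullCl v hx.2⟩

theorem map_map {W Y Z : Scheme.{u}} (v : Z ⟶ Y) (w : W ⟶ Z) (x : (PicF.Cl Y)ˣ) :
    Units.map (Groth.L08.Cube.pullClHom w) (Units.map (Groth.L08.Cube.pullClHom v) x) =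
      Units.map (Groth.L08.Cube.pullClHom (w ≫ v)) x :=
  Units.ext (PicLoc.pullCl_comp w v _).symm

theorem map_id' {Y : Scheme.{u}} (x : (PicF.Cl Y)ˣ) :
    Units.map (Groth.L08.Cube.pullClHom (𝟙 Y)) x = x :=
  Units.ext (PicLoc.pullCl_id _)

variable {X S : Scheme.{u}} {f : X ⟶ S} {T T' : Over S}

/-- Pullback of units along a morphism of test objects. -/
abbrev mp (f : X ⟶ S) {T T' : Over S} (q : T' ⟶ T) : (PicF.Cl (PicF.XT f T))ˣ →* (PicF.Cl (PicF.XT f T'))ˣ :=
  Units.map (Groth.L08.Cube.pullClHom (PicF.XTmap f q))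

theorem mp_id (x : (PicF.Cl (PicF.XT f T))ˣ) : mp f (𝟙 T) x = x := by
  rw [mp, show PicF.XTmap f (𝟙 T) = 𝟙 _ from Groth.L02.Hilb.XTmap_id f T]; exact map_id' x

theorem mp_comp {T'' : Over S} (p : T'' ⟶ T') (q : T' ⟶ T) (x : (PicF.Cl (PicF.XT f T))ˣ) :
    mp f (p ≫ q) x = mp f p (mp f q x) := by
  rw [mp, Groth.L02.Hilb.XTmap_comp f p q]; exact (map_map _ _ x).symm

variable (σ : S ⟶ X) (hσ : σ ≫ f = 𝟙 S)

/-- Restriction along the section. -/
abbrev sT (T : Over S) : (PicF.Cl (PicF.XT f T))ˣ →* (PicF.Cl T.left)ˣ :=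
  Units.map (Groth.L08.Cube.pullClHom (PicF.secT f σ hσ T))

/-- Pullback from the base. -/
abbrev pb (f : X ⟶ S) (T : Over S) : (PicF.Cl T.left)ˣ →* (PicF.Cl (PicF.XT f T))ˣ :=
  Units.map (Groth.L08.Cube.pullClHom (PicF.XTproj f T))

theorem sT_pb (b : (PicF.Cl T.left)ˣ) : sT σ hσ T (pb f T b) = b := by
  rw [sT, pb, map_map, show PicF.secT f σ hσ T ≫ PicF.XTproj f T = 𝟙 _ from secT_snd f σ hσ T]
  exact map_id' b

/-- Normalisation along the section. -/
def nrm (T : Over S) : (PicF.Cl (PicF.XT f T))ˣ →* (PicF.Cl (PicF.XT f T))ˣ where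
  toFun x := x * (pb f T (sT σ hσ T x))⁻¹
  map_one' := by simp
  map_mul' x y := by rw [map_mul, map_mul, mul_inv, mul_mul_mul_comm]

theorem nrm_def (x : (PicF.Cl (PicF.XT f T))ˣ) : nrm σ hσ T x = x * (pb f T (sT σ hσ T x))⁻¹ := rfl

variable (f) in
/-- The rigidified units. -/
def rigSub (T : Over S) : Subgroup (PicF.Cl (PicF.XT f T))ˣ := invU _ ⊓ (sT σ hσ T).ker

theorem mem_rigSub {x : (PicF.Cl (PicF.XT f T))ˣ} :
    x ∈ rigSub f σ hσ T ↔ x ∈ invU _ ∧ sT σ hσ T x = 1 := Iff.rfl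

theorem nrm_mem {x : (PicF.Cl (PicF.XT f T))ˣ} (hx : x ∈ invU _) : nrm σ hσ T x ∈ rigSub f σ hσ T := by
  refine ⟨(invU _).mul_mem hx ((invU _).inv_mem (map_mem_invU _ (map_mem_invU _ hx))), ?_⟩
  show sT σ hσ T (x * _) = 1
  rw [map_mul, map_inv, sT_pb, mul_inv_cancel]

theorem nrm_of_mem {x : (PicF.Cl (PicF.XT f T))ˣ} (hx : x ∈ rigSub f σ hσ T) : nrm σ hσ T x = x := by
  rw [nrm_def, show sT σ hσ T x = 1 from hx.2, map_one, inv_one, mul_one]

theorem nrm_pb (b : (PicF.Cl T.left)ˣ) : nrm σ hσ T (pb f T b) = 1 := by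
  rw [nrm_def, sT_pb, mul_inv_cancel]

theorem mp_nrm (q : T' ⟶ T) (x : (PicF.Cl (PicF.XT f T))ˣ) :
    mp f q (nrm σ hσ T x) = nrm σ hσ T' (mp f q x) := by
  simp only [nrm_def, map_mul, map_inv, mp, pb, sT, map_map]
  congr 3
  simp only [← Category.assoc]
  rw [show PicF.XTmap f q ≫ PicF.XTproj f T = PicF.XTproj f T' ≫ q.left from Groth.L02.Hilb.XTmap_snd f q]
  simp only [Category.assoc]
  rw [secT_XTmap f σ hσ q]

theorem mp_mem (q : T' ⟶ T) {x : (PicF.Cl (PicF.XT f T))ˣ} (hx : x ∈ rigSub f σ hσ T) :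
    mp f q x ∈ rigSub f σ hσ T' := by
  rw [← nrm_of_mem σ hσ hx, mp_nrm]
  exact nrm_mem σ hσ (map_mem_invU _ hx.1)

theorem mem_baseSub_iff {x : (PicF.Cl (PicF.XT f T))ˣ} (hx : x ∈ invU _) :
    x ∈ baseSub f T ↔ nrm σ hσ T x = 1 := by
  constructor
  · rintro ⟨M, hM, hxM⟩
    obtain ⟨b, -, hb⟩ := exists_invU (Y := T.left) ⟨M, rfl, hM⟩
    rw [show x = pb f T b from Units.ext (hxM.trans (congrArg (PicF.pullCl _) hb.symm))]
    exact nrm_pb σ hσ b
  · intro h
    obtain ⟨M, hM, hMinv⟩ := (map_mem_invU (PicF.secT f σ hσ T) hx).1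
    refine ⟨M, hMinv, ?_⟩
    rw [nrm_def, mul_inv_eq_one] at h
    conv_lhs => rw [h]
    exact congrArg (PicF.pullCl _) hM.symm

/-! ### Good loci -/

variable (f) in
/-- The points where a class has no first cohomology and a single section. -/
def goodSet (T : Over S) (c : PicF.Cl (PicF.XT f T)) : Set T.left :=
  {t | CohIII.fiberRank (PicF.XTproj f T) c.out 1 t = 0 ∧ CohIII.fiberRank (PicF.XTproj f T) c.out 0 t = 1}

theorem fiberRank_iso {A B : Scheme.{u}} (q : A ⟶ B) {M N : A.Modules} (e : M ≅ N) (p : ℕ) (b : B) :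
    CohIII.fiberRank q M p b = CohIII.fiberRank q N p b :=
  letI := fibOver q b
  Groth.L03.Euler.finrank_HH_of_iso (k := B.residueField b) ((Scheme.Modules.pullback (q.fiberι b)).mapIso e) p

theorem mem_goodSet_iff {c : PicF.Cl (PicF.XT f T)} {L : (PicF.XT f T).Modules} (h : PicF.cl L = c) (t : T.left) :
    t ∈ goodSet f T c ↔
      CohIII.fiberRank (PicF.XTproj f T) L 1 t = 0 ∧ CohIII.fiberRank (PicF.XTproj f T) L 0 t = 1 := by
  obtain ⟨e⟩ := (PicGrp.cl_eq_cl_iff c.out L).1 ((Quot.out_eq c).trans h.symm)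
  show _ ∧ _ ↔ _
  rw [fiberRank_iso _ e, fiberRank_iso _ e]

variable [IsProper f] [SmoothOfRelativeDimension 1 f] [GeometricallyConnected f]

theorem props_invertible {A B : Scheme.{u}} (q : A ⟶ B) [Flat q] {L : A.Modules} (hL : PicF.IsInvertible L) :
    Coh.IsQCoh L ∧ CohB1.IsFP L ∧ FlatMod.IsFlatOver q L := by
  haveI := Groth.L21.Extend.isQCoh_of_isInvertible hL
  exact ⟨inferInstance, Groth.L18.LFP.isFP_of_isFinLocFree _ (Groth.L16.Existence.isFinLocFree_of_isInvertible hL),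
    Groth.L29.DC.RelTor.isFlatOver_of_isFlat q (Groth.L21.RR.isFlat_of_isInvertible hL)⟩

theorem smooth_XT (T : Over S) : Smooth (PicF.XTproj f T) :=
  haveI := Groth.L02.Hilb.smooth_XTproj f T
  SmoothOfRelativeDimension.smooth 1 _

theorem goodSet_pull (q : T' ⟶ T) {c : PicF.Cl (PicF.XT f T)} (hc : PicF.IsInvertibleCl c) :
    goodSet f T' (PicF.pullCl (PicF.XTmap f q) c) = q.left ⁻¹' goodSet f T c := by
  obtain ⟨L, rfl, hL⟩ := hc
  haveI := smooth_XT (f := f) T
  obtain ⟨h1, h2, h3⟩ := props_invertible (PicF.XTproj f T) hL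
  haveI := h1
  ext t
  rw [Set.mem_preimage]
  refine (mem_goodSet_iff (L := (Scheme.Modules.pullback (PicF.XTmap f q)).obj L) rfl t).trans ?_
  rw [mem_goodSet_iff (L := L) rfl,
    Groth.L20.RankBC.fiberRank_baseChange h2 h3 (Groth.L02.Hilb.isPullback_XTmap f q) t 1,
    Groth.L20.RankBC.fiberRank_baseChange h2 h3 (Groth.L02.Hilb.isPullback_XTmap f q) t 0]

theorem isOpen_goodSet {c : PicF.Cl (PicF.XT f T)} (hc : PicF.IsInvertibleCl c) : IsOpen (goodSet f T c) := by
  obtain ⟨L, rfl, hL⟩ := hc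
  haveI := smooth_XT (f := f) T
  let q := PicF.XTproj f T
  haveI := Groth.L02.Hilb.smooth_XTproj f T
  haveI : SmoothOfRelativeDimension 1 q := ‹SmoothOfRelativeDimension 1 (PicF.XTproj f T)›
  haveI : GeometricallyConnected q := inferInstanceAs (GeometricallyConnected (pullback.snd f T.hom))
  haveI : IsProper q := inferInstanceAs (IsProper (pullback.snd f T.hom))
  obtain ⟨h1, h2, h3⟩ := props_invertible q hL
  haveI := h1
  have key := Groth.Agent.S1026.result q L h2 h3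
  have hχ : ∀ t, PerfAux.eulerChar q L t =
      (CohIII.fiberRank q L 0 t : ℤ) - CohIII.fiberRank q L 1 t := fun t => by
    rw [Groth.Agent.DegreeFun.eulerChar_eq q (fun b => (dim_fibre q b).le) L t]
    simp only [FGA.eulerCharLE, Finset.sum_range_succ, Finset.range_zero, Finset.sum_empty, zero_add,
      pow_zero, pow_one, one_mul, neg_mul]
    rfl
  have he : goodSet f T (PicF.cl L) =
      {t | CohIII.fiberRank q L 1 t < 1} ∩ (fun t => PerfAux.eulerChar q L t) ⁻¹' {1} := by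
    ext t
    rw [mem_goodSet_iff (L := L) rfl, Set.mem_inter_iff, Set.mem_preimage, Set.mem_singleton_iff, hχ]
    show (CohIII.fiberRank q L 1 t = 0 ∧ CohIII.fiberRank q L 0 t = 1) ↔
      (CohIII.fiberRank q L 1 t < 1 ∧ (CohIII.fiberRank q L 0 t : ℤ) - CohIII.fiberRank q L 1 t = 1)
    generalize CohIII.fiberRank q L 1 t = a
    generalize CohIII.fiberRank q L 0 t = b
    omega
  rw [he]
  exact (Groth.L17.BC.isOpen_fiberRank_lt q L h2 h3 1 1).inter (key {1})

theorem goodSet_mul_pb {c : PicF.Cl (PicF.XT f T)} (hc : PicF.IsInvertibleCl c) {b : PicF.Cl T.left}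
    (hb : PicF.IsInvertibleCl b) : goodSet f T (c * PicF.pullCl (PicF.XTproj f T) b) = goodSet f T c := by
  obtain ⟨L, rfl, hL⟩ := hc
  obtain ⟨M, rfl, hM⟩ := hb
  let q := PicF.XTproj f T
  ext t
  obtain ⟨i⟩ := nonempty_fibre_base (f := q) hM t
  let e : (Scheme.Modules.pullback (q.fiberι t)).obj (CohB1.tensorMod L ((Scheme.Modules.pullback q).obj M)) ≅
      (Scheme.Modules.pullback (q.fiberι t)).obj L :=
    (Groth.L29.DC.PullTensor.pullTensor (q.fiberι t) _ _).symm ≪≫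
      Groth.L00.Tensor.tensorIso (Iso.refl _) i ≪≫ Groth.L00.Tensor.tensorUnitRight _
  have hp : ∀ p, CohIII.fiberRank q (CohB1.tensorMod L ((Scheme.Modules.pullback q).obj M)) p t =
      CohIII.fiberRank q L p t := fun p => by
    letI := fibOver q t
    exact Groth.L03.Euler.finrank_HH_of_iso (k := T.left.residueField t) e p
  refine (mem_goodSet_iff (L := CohB1.tensorMod L ((Scheme.Modules.pullback q).obj M)) rfl t).trans ?_
  rw [mem_goodSet_iff (L := L) rfl, hp, hp]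

theorem goodSet_nrm {x : (PicF.Cl (PicF.XT f T))ˣ} (hx : x ∈ invU _) :
    goodSet f T (nrm σ hσ T x : PicF.Cl (PicF.XT f T)) = goodSet f T (x : PicF.Cl (PicF.XT f T)) := by
  rw [nrm_def, ← map_inv, Units.val_mul]
  exact goodSet_mul_pb hx.1 (map_mem_invU _ hx).2

theorem good_of_goodSet {L : (PicF.XT f T).Modules} (hL : PicF.IsInvertible L)
    (h : goodSet f T (PicF.cl L) = Set.univ) : Good (PicF.XTproj f T) L := fun t => by
  haveI := smooth_XT (f := f) T
  haveI : IsProper (PicF.XTproj f T) := inferInstanceAs (IsProper (pullback.snd f T.hom))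
  obtain ⟨h1, h2, h3⟩ := props_invertible (PicF.XTproj f T) hL
  haveI := h1
  have := (mem_goodSet_iff (L := L) rfl t).1 (h ▸ Set.mem_univ t)
  exact ⟨(Groth.L17.BC.subsingleton_iff_fiberRank_eq_zero _ L h2 h3 t 1).2 this.1, this.2⟩

theorem goodSet_of_good {L : (PicF.XT f T).Modules} (h : Good (PicF.XTproj f T) L) :
    goodSet f T (PicF.cl L) = Set.univ := Set.eq_univ_iff_forall.2 fun t => by
  rw [mem_goodSet_iff (L := L) rfl]
  letI := fibOver (PicF.XTproj f T) t
  haveI := (h t).1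
  exact ⟨Module.finrank_zero_of_subsingleton, (h t).2⟩

/-- The genus is stable under base change. -/
theorem GenusEq.baseChange {g : ℕ} (hg : GenusEq f g) (T : Over S) : GenusEq (PicF.XTproj f T) g := fun t => by
  haveI : Smooth f := SmoothOfRelativeDimension.smooth 1 f
  obtain ⟨h1, h2, h3⟩ := props_invertible f (Groth.L18.Ample.isInvertible_structureModule X)
  haveI := h1
  have e1 : CohIII.fiberRank (PicF.XTproj f T) ((Scheme.Modules.pullback (pullback.fst f T.hom)).obj (Coh.structureModule X)) 1 t =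
      CohIII.fiberRank f (Coh.structureModule X) 1 (T.hom t) :=
    Groth.L20.RankBC.fiberRank_baseChange h2 h3 (IsPullback.of_hasPullback f T.hom) t 1
  have e2 : ∀ {A B : Scheme.{u}} (q : A ⟶ B) (b : B),
      CohIII.fiberRank q (Coh.structureModule A) 1 b =
        (letI := fibOver q b; Groth.L21.RR.h (B.residueField b) 1 (Coh.structureModule (q.fiber b))) :=
    fun q b => letI := fibOver q b
      Groth.L03.Euler.finrank_HH_of_iso (k := _) (Groth.L29.LocFree.pullbackUnitIso (q.fiberι b)) 1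
  rw [← hg (T.hom t), ← e2 f, ← e1, ← e2]
  exact (fiberRank_iso _ (Groth.L29.LocFree.pullbackUnitIso _) 1 t).symm

end Groth.Agent.L26.PicRep
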