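import Groth.Agent.L26.PicRep.Sheaf
import Groth.Agent.L02.Hilb.OpenCharts
import Groth.Prelude.Def_Pic

/-!
# Charts of the rigidified Picard functor by Hilbert schemes of points
-/

set_option autoImplicit false
set_option linter.style.haveILetI false
set_option linter.unusedSectionVars false
set_option backward.isDefEq.respectTransparency false
set_option backward.isDefEq.respectTransparency.types false

universe u

open CategoryTheory CategoryTheory.Limits AlgebraicGeometry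
open Groth.L25.HomScheme

noncomputable section

namespace Groth.Agent.L26.PicRep

attribute [local instance] Groth.L08.Cube.clMonoid

variable {X S : Scheme.{u}} {f : X ⟶ S} (σ : S ⟶ X) (hσ : σ ≫ f = 𝟙 S) {T T' : Over S}

variable (f) in
/-- A constant class on a base change, normalised along the section. -/
def eR (η : (PicF.Cl X)ˣ) (T : Over S) : (PicF.Cl (PicF.XT f T))ˣ :=
  nrm σ hσ T (Units.map (Groth.L08.Cube.pullClHom (pullback.fst f T.hom)) η)

theorem eR_mem {η : (PicF.Cl X)ˣ} (hη : η ∈ invU X) (T : Over S) : eR f σ hσ η T ∈ rigSub f σ hσ T :=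
  nrm_mem σ hσ (map_mem_invU _ hη)

theorem mp_eR (η : (PicF.Cl X)ˣ) (q : T' ⟶ T) : mp f q (eR f σ hσ η T) = eR f σ hσ η T' := by
  rw [eR, mp_nrm, eR, mp, map_map, show PicF.XTmap f q ≫ pullback.fst f T.hom = pullback.fst f T'.hom from
    Groth.L02.Hilb.XTmap_fst f q]

variable [IsProper f] [SmoothOfRelativeDimension 1 f] [GeometricallyConnected f]
  {g : ℕ} {H : Over S} (Z : HilbD.Obj f g H)

/-- The open where the class of the divisor is good. -/
def chartOpen : H.left.Opens :=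
  ⟨goodSet f H (clsDiv σ hσ Z : PicF.Cl (PicF.XT f H)), isOpen_goodSet (clsDiv_mem σ hσ Z).1.1⟩

/-- The chart. -/
abbrev chartObj : Over S := AbDual.ovr H (chartOpen σ hσ Z).ι

/-- The inclusion of the chart. -/
abbrev chartIncl : chartObj σ hσ Z ⟶ H := AbDual.ovrHom H (chartOpen σ hσ Z).ι

variable {η : (PicF.Cl X)ˣ} (hη : η ∈ invU X)

/-- The class on the chart. -/
def chartCls : (rigFam f σ hσ).obj (chartObj σ hσ Z) :=
  ⟨mp f (chartIncl σ hσ Z) (clsDiv σ hσ Z) * (eR f σ hσ η (chartObj σ hσ Z))⁻¹,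
    (rigSub f σ hσ _).mul_mem (mp_mem σ hσ _ (clsDiv_mem σ hσ Z))
      ((rigSub f σ hσ _).inv_mem (eR_mem σ hσ hη _))⟩

theorem mp_chartCls (a : T ⟶ chartObj σ hσ Z) :
    mp f a (chartCls σ hσ Z hη).1 * eR f σ hσ η T =
      clsDiv σ hσ (Groth.L02.Hilb.pullObj f (a ≫ chartIncl σ hσ Z) Z) := by
  show mp f a (mp f (chartIncl σ hσ Z) (clsDiv σ hσ Z) * (eR f σ hσ η (chartObj σ hσ Z))⁻¹) * _ = _
  rw [map_mul, map_inv, mp_eR, inv_mul_cancel_right, ← mp_comp, mp_clsDiv]

theorem good_comp_chart (a : T ⟶ chartObj σ hσ Z) :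
    goodSet f T (clsDiv σ hσ (Groth.L02.Hilb.pullObj f (a ≫ chartIncl σ hσ Z) Z) : PicF.Cl (PicF.XT f T)) =
      Set.univ := by
  refine Set.eq_univ_iff_forall.2 fun t => ?_
  rw [← mp_clsDiv]
  show t ∈ goodSet f T (PicF.pullCl _ _)
  rw [goodSet_pull _ (clsDiv_mem σ hσ Z).1.1]
  exact (a.left t).2

variable (hg : GenusEq f g) (hZ : HilbD.IsUniversal f g H Z)

include hg hZ in
theorem chartCls_inj (a b : T ⟶ chartObj σ hσ Z)
    (h : (rigFam f σ hσ).res a (chartCls σ hσ Z hη) = (rigFam f σ hσ).res b (chartCls σ hσ Z hη)) : a = b := by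
  have e : clsDiv σ hσ (Groth.L02.Hilb.pullObj f (a ≫ chartIncl σ hσ Z) Z) =
      clsDiv σ hσ (Groth.L02.Hilb.pullObj f (b ≫ chartIncl σ hσ Z) Z) := by
    rw [← mp_chartCls σ hσ Z hη a, ← mp_chartCls σ hσ Z hη b]
    exact congrArg (· * eR f σ hσ η T) (congrArg Subtype.val h)
  have e2 := (existsUnique_clsDiv σ hσ hg (clsDiv_mem σ hσ _) (good_comp_chart σ hσ Z b)).unique e rfl
  have e3 := Groth.L02.Hilb.hom_ext_of_isUniversal f hZ _ _ (congrArg Subtype.val e2)
  exact Over.OverMorphism.ext ((cancel_mono (chartOpen σ hσ Z).ι).1 (congrArg CommaMorphism.left e3))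

/-- The locus where a class lies in the chart. -/
def chartLocus (x : (rigFam f σ hσ).obj T) : T.left.Opens :=
  ⟨goodSet f T ((x.1 * eR f σ hσ η T : (PicF.Cl (PicF.XT f T))ˣ) : PicF.Cl (PicF.XT f T)),
    isOpen_goodSet ((invU _).mul_mem x.2.1 (eR_mem σ hσ hη T).1).1⟩

include hg hZ in
theorem exists_factor_iff (x : (rigFam f σ hσ).obj T) (q : T' ⟶ T) :
    (∃ h : T' ⟶ chartObj σ hσ Z, (rigFam f σ hσ).res h (chartCls σ hσ Z hη) = (rigFam f σ hσ).res q x) ↔
      Set.range q.left ⊆ (chartLocus σ hσ hη x : Set T.left) := by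
  have hxi : x.1 * eR f σ hσ η T ∈ invU _ := (invU _).mul_mem x.2.1 (eR_mem σ hσ hη T).1
  have hpre : goodSet f T' ((mp f q x.1 * eR f σ hσ η T' : (PicF.Cl (PicF.XT f T'))ˣ) : PicF.Cl (PicF.XT f T')) =
      q.left ⁻¹' (chartLocus σ hσ hη x : Set T.left) := by
    rw [← mp_eR σ hσ η q, ← map_mul]
    exact goodSet_pull q hxi.1
  constructor
  · rintro ⟨h, hh⟩ _ ⟨t, rfl⟩
    have e := good_comp_chart σ hσ Z h
    rw [← mp_chartCls σ hσ Z hη h, show mp f h (chartCls σ hσ Z hη).1 = mp f q x.1 from congrArg Subtype.val hh,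
      hpre] at e
    exact Set.eq_univ_iff_forall.1 e t
  · intro hq
    have hgood : goodSet f T' ((mp f q x.1 * eR f σ hσ η T' : (PicF.Cl (PicF.XT f T'))ˣ) : PicF.Cl (PicF.XT f T')) =
        Set.univ := by
      rw [hpre]
      exact Set.eq_univ_iff_forall.2 fun t => hq ⟨t, rfl⟩
    obtain ⟨Z', hZ', -⟩ := existsUnique_clsDiv σ hσ hg
      ((rigSub f σ hσ T').mul_mem (mp_mem σ hσ q x.2) (eR_mem σ hσ hη T')) hgood
    obtain ⟨a, ha, -⟩ := hZ T' Z'
    have hpull : Groth.L02.Hilb.pullObj f a Z = Z' := Subtype.ext ha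
    have hcls : mp f a (clsDiv σ hσ Z) = mp f q x.1 * eR f σ hσ η T' := by rw [mp_clsDiv, hpull, hZ']
    have hrange : Set.range a.left ⊆ Set.range (chartOpen σ hσ Z).ι := by
      rintro _ ⟨t, rfl⟩
      rw [Scheme.Opens.range_ι]
      have e1 := goodSet_pull a (clsDiv_mem σ hσ Z).1.1
      rw [show PicF.pullCl (PicF.XTmap f a) (clsDiv σ hσ Z : PicF.Cl (PicF.XT f H)) = _ from congrArg Units.val hcls,
        hgood] at e1
      exact Set.eq_univ_iff_forall.1 e1.symm t
    let h : T' ⟶ chartObj σ hσ Z := Over.homMk (IsOpenImmersion.lift (chartOpen σ hσ Z).ι a.left hrange) (by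
      show _ ≫ (chartOpen σ hσ Z).ι ≫ H.hom = T'.hom
      rw [IsOpenImmersion.lift_fac_assoc]
      exact Over.w a)
    have hh : h ≫ chartIncl σ hσ Z = a := Over.OverMorphism.ext (IsOpenImmersion.lift_fac _ _ _)
    refine ⟨h, Subtype.ext ?_⟩
    show mp f h (chartCls σ hσ Z hη).1 = mp f q x.1
    have e := mp_chartCls σ hσ Z hη h
    rw [hh, hpull, hZ'] at e
    exact mul_right_cancel e

include hg hZ in
/-- Representability from covering charts. -/
theorem rigRepresentable_of_charts (ha : ∀ (T : Over S) (U : T.left.Opens), IsIso ((PicF.XTproj f T).app U))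
    {ι : Type u} (e : ι → (PicF.Cl X)ˣ) (he : ∀ i, e i ∈ invU X)
    (hcov : ∀ (T : Over S) (x : (rigFam f σ hσ).obj T) (t : T.left), ∃ i, t ∈ chartLocus σ hσ (he i) x) :
    PicF.RigRepresentable f σ hσ := by
  have hloc : ∀ (T : Over S) (x : (rigFam f σ hσ).obj T) (i : ι) (W : T.left.Opens),
      W ≤ chartLocus σ hσ (he i) x → ∃ h : AbDual.ovr T W.ι ⟶ chartObj σ hσ Z,
        (rigFam f σ hσ).res h (chartCls σ hσ Z (he i)) = (rigFam f σ hσ).res (AbDual.ovrHom T W.ι) x :=
    fun T x i W hW => (exists_factor_iff σ hσ Z (he i) hg hZ x _).2 (by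
      show Set.range W.ι ⊆ _
      rw [Scheme.Opens.range_ι]; exact hW)
  haveI hsmall : ∀ T, Small.{u} ((rigFam f σ hσ).obj T) := fun T => by
    let D := Σ (_ : ι) (W : T.left.Opens), (AbDual.ovr T W.ι ⟶ chartObj σ hσ Z)
    let Φ : (rigFam f σ hσ).obj T → Set D := fun x =>
      {d | (rigFam f σ hσ).res d.2.2 (chartCls σ hσ Z (he d.1)) = (rigFam f σ hσ).res (AbDual.ovrHom T d.2.1.ι) x}
    refine small_of_injective (f := Φ) fun x y hxy => ?_
    choose i hi using hcov T x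
    have hW : IsOpenFamily (fun t : T.left => AbDual.ovr T (chartLocus σ hσ (he (i t)) x).ι)
        (fun t => AbDual.ovrHom T (chartLocus σ hσ (he (i t)) x).ι) := by
      refine ⟨fun t => inferInstanceAs (IsOpenImmersion (chartLocus σ hσ (he (i t)) x).ι), fun t => ⟨t, ?_⟩⟩
      show t ∈ Set.range (chartLocus σ hσ (he (i t)) x).ι
      rw [Scheme.Opens.range_ι]; exact hi t
    refine zarSep_rigFam ha T _ _ _ hW x y fun t => ?_
    obtain ⟨h, hh⟩ := hloc T x (i t) _ le_rfl
    have hmem : (⟨i t, chartLocus σ hσ (he (i t)) x, h⟩ : D) ∈ Φ x := hh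
    rw [hxy] at hmem
    exact hh.symm.trans hmem
  obtain ⟨P, η, hη⟩ := Groth.L02.Hilb.exists_rep_openCharts (shrinkFam (rigFam f σ hσ))
    (zarSep_shrink (zarSep_rigFam ha)) (zarGlue_shrink (zarGlue_rigFam ha))
    (fun _ : ι => chartObj σ hσ Z) (fun i => equivShrink _ (chartCls σ hσ Z (he i)))
    (fun i T a b hab => by
      have h := (equivShrink _).injective hab
      rw [Equiv.symm_apply_apply] at h
      exact chartCls_inj σ hσ Z (he i) hg hZ a b h)
    (fun i T x => ⟨chartLocus σ hσ (he i) ((equivShrink _).symm x), fun T' q => by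
      rw [← exists_factor_iff σ hσ Z (he i) hg hZ]
      refine exists_congr fun h => ?_
      show equivShrink _ ((rigFam f σ hσ).res h ((equivShrink _).symm (equivShrink _ _))) = equivShrink _ _ ↔ _
      rw [Equiv.symm_apply_apply, EmbeddingLike.apply_eq_iff_eq]⟩)
    (fun T x t => by
      obtain ⟨i, hi⟩ := hcov T ((equivShrink _).symm x) t
      let W := chartLocus σ hσ (he i) ((equivShrink _).symm x)
      obtain ⟨h, hh⟩ := hloc T _ i W le_rfl
      refine ⟨i, AbDual.ovr T W.ι, AbDual.ovrHom T W.ι, inferInstanceAs (IsOpenImmersion W.ι), ?_, h, ?_⟩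
      · show t ∈ Set.range W.ι
        rw [Scheme.Opens.range_ι]; exact hi
      · show equivShrink _ ((rigFam f σ hσ).res h ((equivShrink _).symm (equivShrink _ _))) = equivShrink _ _
        rw [Equiv.symm_apply_apply, hh])
  let ξ := (equivShrink _).symm η
  refine ⟨P, ⟨(ξ.1 : PicF.Cl (PicF.XT f P)), ξ.2.1.1, val_rig f σ hσ ξ⟩, fun T c => ?_⟩
  obtain ⟨z, hz, hzc⟩ := exists_invU c.2.1
  let x : (rigFam f σ hσ).obj T := ⟨z, hz, Units.ext (by
    show PicF.pullCl (PicF.secT f σ hσ T) (z : PicF.Cl (PicF.XT f T)) = 1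
    rw [hzc]; exact c.2.2)⟩
  obtain ⟨a, ha', huniq⟩ := isRep_of_shrink hη T x
  refine ⟨a, (congrArg (fun y : (rigFam f σ hσ).obj T => (y.1 : PicF.Cl (PicF.XT f T))) ha').trans hzc, fun b hb => ?_⟩
  exact huniq b (Subtype.ext (Units.ext (hb.trans hzc.symm)))

end Groth.Agent.L26.PicRep
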