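import Groth.Agent.L26.PicRep.DivisorCl
import Groth.Agent.L26.InvDescent.Disjoint
import Groth.Agent.L25.HomScheme.Sigma
import Groth.Agent.S12403
import Mathlib.Logic.Small.Basic

/-!
# Rigidified classes form a Zariski sheaf
-/

set_option autoImplicit false
set_option linter.style.haveILetI false
set_option linter.unusedSectionVars false
set_option backward.isDefEq.respectTransparency false
set_option backward.isDefEq.respectTransparency.types false

universe u v

open CategoryTheory CategoryTheory.Limits AlgebraicGeometry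
open Groth.Agent.AbDualLib (cl_eq_of_cover secT_XTmap XTmap_fst XTmap_snd cl_congr)
open Groth.L25.HomScheme

noncomputable section

namespace Groth.Agent.L26.PicRep

attribute [local instance] Groth.L08.Cube.clMonoid

/-- A family moved to the universe of the base. -/
def shrinkFam {S : Scheme.{u}} (F : Fam.{u, v} S) [∀ T, Small.{u} (F.obj T)] : Fam.{u, u} S where
  obj T := Shrink.{u} (F.obj T)
  res q x := equivShrink _ (F.res q ((equivShrink _).symm x))
  res_id x := by rw [F.res_id, Equiv.apply_symm_apply]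
  res_comp q p x := by rw [F.res_comp, Equiv.symm_apply_apply]

theorem zarSep_shrink {S : Scheme.{u}} {F : Fam.{u, v} S} [∀ T, Small.{u} (F.obj T)] (h : F.ZarSep) :
    (shrinkFam F).ZarSep := fun T ι U j hU x y hxy =>
  (equivShrink _).symm.injective (h T ι U j hU _ _ fun i => (equivShrink _).injective (hxy i))

theorem zarGlue_shrink {S : Scheme.{u}} {F : Fam.{u, v} S} [∀ T, Small.{u} (F.obj T)] (h : F.ZarGlue) :
    (shrinkFam F).ZarGlue := fun T ι U j hU x hx => by
  obtain ⟨y, hy⟩ := h T ι U j hU (fun i => (equivShrink _).symm (x i))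
    fun i k Z a b hab => (equivShrink _).injective (hx i k Z a b hab)
  refine ⟨equivShrink _ y, fun i => ?_⟩
  show equivShrink _ (F.res (j i) ((equivShrink _).symm (equivShrink _ y))) = x i
  rw [Equiv.symm_apply_apply, hy i, Equiv.apply_symm_apply]

theorem isRep_of_shrink {S : Scheme.{u}} {F : Fam.{u, v} S} [∀ T, Small.{u} (F.obj T)] {A : Over S}
    {η : (shrinkFam F).obj A} (h : (shrinkFam F).IsRep A η) : F.IsRep A ((equivShrink _).symm η) := fun T x => by
  obtain ⟨a, ha, huniq⟩ := h T (equivShrink _ x)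
  exact ⟨a, (equivShrink _).injective ha, fun b hb => huniq b (congrArg (equivShrink _) hb)⟩

variable {X S : Scheme.{u}} (f : X ⟶ S) (σ : S ⟶ X) (hσ : σ ≫ f = 𝟙 S)

/-- The family of rigidified classes. -/
def rigFam : Fam.{u, u + 1} S where
  obj T := rigSub f σ hσ T
  res q x := ⟨mp f q x.1, mp_mem σ hσ q x.2⟩
  res_id x := Subtype.ext (mp_id x.1)
  res_comp q p x := Subtype.ext (mp_comp q p x.1)

theorem rigFam_res_val {T T' : Over S} (q : T' ⟶ T) (x : (rigFam f σ hσ).obj T) :
    ((rigFam f σ hσ).res q x).1 = mp f q x.1 := rfl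

theorem val_rig {T : Over S} (x : (rigFam f σ hσ).obj T) :
    PicF.pullCl (PicF.secT f σ hσ T) (x.1 : PicF.Cl (PicF.XT f T)) = 1 :=
  congrArg Units.val x.2.2

variable {f σ hσ} (ha : ∀ (T : Over S) (U : T.left.Opens), IsIso ((PicF.XTproj f T).app U))

include ha in
theorem zarSep_rigFam : (rigFam f σ hσ).ZarSep := by
  intro T ι U j hU x y hxy
  have hR : Presieve.ofArrows (fun i => (U i).left) (fun i => (j i).left) ∈
      Scheme.fppfPrecoverage T.left := by
    refine (Scheme.ofArrows_mem_precoverage_iff _).2 ⟨hU.covers, fun i => ?_⟩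
    haveI := hU.isOpenImmersion i
    exact ⟨(inferInstance : Flat (j i).left), (inferInstance : LocallyOfFinitePresentation (j i).left)⟩
  refine Subtype.ext (Units.ext (cl_eq_of_cover f σ hσ hR (fun T' t _ => ?_) x.2.1.1 y.2.1.1
    ((val_rig f σ hσ x).trans (val_rig f σ hσ y).symm) ?_))
  · haveI := ha T' ⊤
    exact (ConcreteCategory.bijective_of_isIso ((PicF.XTproj f T').app ⊤)).2
  · rintro _ _ ⟨i⟩
    let e : AbDual.ovr T (j i).left ⟶ U i := Over.homMk (𝟙 _) ((Category.id_comp _).trans (Over.w (j i)).symm)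
    have he : e ≫ j i = AbDual.ovrHom T (j i).left := Over.OverMorphism.ext (Category.id_comp _)
    have h : mp f (AbDual.ovrHom T (j i).left) x.1 = mp f (AbDual.ovrHom T (j i).left) y.1 := by
      rw [← he, mp_comp, mp_comp]
      exact congrArg (mp f e) (congrArg Subtype.val (hxy i))
    exact congrArg Units.val h

include ha in
theorem zarGlue_rigFam [IsProper f] [SmoothOfRelativeDimension 1 f] [GeometricallyConnected f] :
    (rigFam f σ hσ).ZarGlue := by
  intro T ι U j hU y hy
  haveI := hU.isOpenImmersion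
  let u : (∐ fun i => (U i).left) ⟶ T.left := Limits.Sigma.desc fun i => (j i).left
  haveI : Flat u := IsZariskiLocalAtSource.sigmaDesc fun i => inferInstance
  haveI : LocallyOfFinitePresentation u := IsZariskiLocalAtSource.sigmaDesc fun i => inferInstance
  haveI : Surjective u := Surjective.sigmaDesc_of_union_range_eq_univ
    (Set.eq_univ_iff_forall.2 fun t => Set.mem_iUnion.2 (hU.covers t))
  let T₁ : Over S := AbDual.ovr T u
  let q : ∀ i, U i ⟶ T₁ := fun i => Over.homMk (Limits.Sigma.ι (fun i => (U i).left) i) (by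
    show Limits.Sigma.ι (fun i => (U i).left) i ≫ u ≫ T.hom = (U i).hom
    rw [Limits.Sigma.ι_desc_assoc]
    exact Over.w (j i))
  have hq : ∀ i, q i ≫ AbDual.ovrHom T u = j i := fun i => Over.OverMorphism.ext (Limits.Sigma.ι_desc _ i)
  haveI : ∀ i, IsOpenImmersion (q i).left := fun i =>
    inferInstanceAs (IsOpenImmersion (Limits.Sigma.ι (fun i => (U i).left) i))
  haveI : ∀ i, IsOpenImmersion (PicF.XTmap f (q i)) := fun i => by
    unfold PicF.XTmap; infer_instance
  have hdis : ∀ i k, i ≠ k → ∀ a b, PicF.XTmap f (q i) a ≠ PicF.XTmap f (q k) b := by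
    intro i k hik a b hab
    have h := congrArg (pullback.snd f T₁.hom) hab
    rw [← Scheme.Hom.comp_apply, ← Scheme.Hom.comp_apply,
      show PicF.XTmap f (q i) ≫ pullback.snd f T₁.hom = pullback.snd f (U i).hom ≫ (q i).left from XTmap_snd f (q i),
      show PicF.XTmap f (q k) ≫ pullback.snd f T₁.hom = pullback.snd f (U k).hom ≫ (q k).left from XTmap_snd f (q k),
      Scheme.Hom.comp_apply, Scheme.Hom.comp_apply] at h
    exact hik (congrArg Sigma.fst ((sigmaι_eq_iff (fun i => (U i).left) i k _ _).1 h))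
  have hcovq : ∀ t : T₁.left, ∃ i, t ∈ Set.range (q i).left := fun t =>
    (sigmaOpenCover fun i => (U i).left).exists_eq t
  have hcovT : ∀ z : (PicF.XT f T₁ : Scheme.{u}), ∃ i a, PicF.XTmap f (q i) a = z :=
    Groth.L02.Hilb.covers_XT ⟨fun i => inferInstance, hcovq⟩
  choose L hLy hL using fun i => (y i).2.1.1
  obtain ⟨M, hM, hMi⟩ := InvDescent.exists_of_disjoint _ (fun i => PicF.XTmap f (q i)) hdis hcovT L hL
  obtain ⟨x, hx, hxM⟩ := exists_invU (Y := PicF.XT f T₁) ⟨M, rfl, hM⟩
  let x' : (rigFam f σ hσ).obj T₁ := ⟨nrm σ hσ T₁ x, nrm_mem σ hσ hx⟩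
  have hx' : ∀ i, (rigFam f σ hσ).res (q i) x' = y i := fun i => Subtype.ext <| by
    show mp f (q i) (nrm σ hσ T₁ x) = _
    rw [mp_nrm, show mp f (q i) x = (y i).1 from Units.ext (by
      show PicF.pullCl (PicF.XTmap f (q i)) (x : PicF.Cl (PicF.XT f T₁)) = _
      rw [hxM, ← hLy i]
      exact cl_congr (hMi i).some), nrm_of_mem σ hσ (y i).2]
  let T₂ : Over S := AbDual.ovr T₁ (pullback.fst u u)
  let p₁ : T₂ ⟶ T₁ := AbDual.ovrHom T₁ (pullback.fst u u)
  let p₂ : T₂ ⟶ T₁ := Over.homMk (pullback.snd u u) (pullback.condition_assoc T.hom).symm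
  let Q : ι × ι → Over S := fun a => Over.mk (pullback.fst (j a.1).left (j a.2).left ≫ (U a.1).hom)
  let ql : ∀ a, Q a ⟶ U a.1 := fun a => Over.homMk (pullback.fst (j a.1).left (j a.2).left) rfl
  let qr : ∀ a, Q a ⟶ U a.2 := fun a => Over.homMk (pullback.snd (j a.1).left (j a.2).left) (by
    show pullback.snd (j a.1).left (j a.2).left ≫ (U a.2).hom = pullback.fst _ _ ≫ (U a.1).hom
    rw [← Over.w (j a.1), ← Over.w (j a.2), pullback.condition_assoc])
  have hm : ∀ a : ι × ι, ∀ i : ι, (j i).left ≫ 𝟙 T.left = (q i).left ≫ u := fun a i => by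
    rw [Category.comp_id]; exact (Limits.Sigma.ι_desc (fun i => (j i).left) i).symm
  let m : ∀ a : ι × ι, pullback (j a.1).left (j a.2).left ⟶ pullback u u := fun a =>
    pullback.map (j a.1).left (j a.2).left u u (q a.1).left (q a.2).left (𝟙 T.left) (hm a a.1) (hm a a.2)
  let qq : ∀ a, Q a ⟶ T₂ := fun a => Over.homMk (m a) (by
    show m a ≫ pullback.fst u u ≫ u ≫ T.hom = pullback.fst _ _ ≫ (U a.1).hom
    rw [pullback.lift_fst_assoc, Category.assoc, ← Over.w (q a.1)]
    rfl)
  have hQ : IsOpenFamily Q qq := by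
    refine ⟨fun a => ?_, fun w => ?_⟩
    · haveI : IsOpenImmersion (m a) := by dsimp only [m]; infer_instance
      exact ‹IsOpenImmersion (m a)›
    · obtain ⟨i, a, ha⟩ := hcovq (pullback.fst u u w)
      obtain ⟨k, b, hb⟩ := hcovq (pullback.snd u u w)
      have hw : w ∈ Set.range (m (i, k)) := by
        dsimp only [m]
        rw [Scheme.Pullback.range_map]
        exact ⟨⟨a, ha⟩, ⟨b, hb⟩⟩
      exact ⟨(i, k), hw⟩
  have hglue : (rigFam f σ hσ).res p₁ x' = (rigFam f σ hσ).res p₂ x' := by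
    refine zarSep_rigFam ha T₂ _ Q qq hQ _ _ fun a => ?_
    have e1 : qq a ≫ p₁ = ql a ≫ q a.1 := Over.OverMorphism.ext (pullback.lift_fst _ _ _)
    have e2 : qq a ≫ p₂ = qr a ≫ q a.2 := Over.OverMorphism.ext (pullback.lift_snd _ _ _)
    rw [← (rigFam f σ hσ).res_comp, ← (rigFam f σ hσ).res_comp, e1, e2, (rigFam f σ hσ).res_comp,
      (rigFam f σ hσ).res_comp, hx', hx']
    exact hy a.1 a.2 (Q a) (ql a) (qr a) (Over.OverMorphism.ext pullback.condition)
  let c' : PicF.Rig f σ hσ T₁ := ⟨(x'.1 : PicF.Cl (PicF.XT f T₁)), x'.2.1.1, val_rig f σ hσ x'⟩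
  obtain ⟨c, hc, -⟩ := Groth.Agent.S12403.result f σ hσ ha T u c' (congrArg Units.val (congrArg Subtype.val hglue))
  obtain ⟨z, hz, hzc⟩ := exists_invU c.2.1
  refine ⟨⟨z, hz, Units.ext ?_⟩, fun i => ?_⟩
  · show PicF.pullCl (PicF.secT f σ hσ T) (z : PicF.Cl (PicF.XT f T)) = 1
    rw [hzc]; exact c.2.2
  · refine Subtype.ext ?_
    show mp f (j i) z = (y i).1
    have hzx : mp f (AbDual.ovrHom T u) z = x'.1 := Units.ext (by
      show PicF.pullCl (PicF.XTmap f (AbDual.ovrHom T u)) (z : PicF.Cl (PicF.XT f T)) = _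
      rw [hzc]; exact hc)
    rw [← hq i, mp_comp, hzx]
    exact congrArg Subtype.val (hx' i)

end Groth.Agent.L26.PicRep
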