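import Groth.Agent.L26.PicRep.Charts
import Groth.Agent.S1166
import Groth.Agent.S6487
import Groth.Agent.L22.CurveAmple.Affine
import Groth.Agent.L21.Mero.ClassMap
import Groth.Agent.L20.DescLocus.AppIso
import Groth.Agent.L16.SecComp.Smooth
import Groth.Agent.L21.SmoothCurveDim
import Groth.Prelude.Def_Curve

/-!
# Representability of the rigidified Picard functor of a smooth proper curve
-/

set_option autoImplicit false
set_option linter.style.haveILetI false
set_option linter.unusedSectionVars false
set_option backward.isDefEq.respectTransparency false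
set_option backward.isDefEq.respectTransparency.types false

universe u

open CategoryTheory CategoryTheory.Limits AlgebraicGeometry TopologicalSpace

noncomputable section

namespace Groth.Agent.L26.PicRep

attribute [local instance] Groth.L08.Cube.clMonoid

variable (k : Type u) [Field k] {X : Scheme.{u}} [X.Over (Spec (CommRingCat.of k))]
  [IsProper (X ↘ Spec (CommRingCat.of k))] [IsIntegral X]

local notation "fX" => (X ↘ Spec (CommRingCat.of k))

include k in
/-- Finitely many points of a curve lie in an affine open. -/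
theorem exists_affine_tuple (hd : topologicalKrullDim X = 1) {d : ℕ} (x : Fin d → X) :
    ∃ U : X.Opens, IsAffineOpen U ∧ ∀ i, x i ∈ U := by
  haveI := Groth.L21.RR.isNoetherian_of_proper (X := X) k
  haveI : JacobsonSpace X := LocallyOfFiniteType.jacobsonSpace fX
  have hgen_closed : ¬ IsClosed ({genericPoint X} : Set X) := by
    intro hc
    have huniv : ({genericPoint X} : Set X) = Set.univ := by
      rw [← hc.closure_eq]; exact (genericPoint_spec X).def
    haveI : Subsingleton X := Set.subsingleton_univ_iff.1 (huniv ▸ Set.subsingleton_singleton)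
    have := topologicalKrullDim_zero_of_discreteTopology X
    rw [hd] at this
    exact absurd this (not_le.2 zero_lt_one)
  have hinf : ¬ (closedPoints X).Finite := by
    intro hfin
    have hclosed : IsClosed (closedPoints X) := by
      rw [← Set.biUnion_of_singleton (closedPoints X)]
      exact hfin.isClosed_biUnion fun a ha => ha
    have h1 := closure_closedPoints (X := X)
    rw [hclosed.closure_eq] at h1
    exact hgen_closed (h1.ge (Set.mem_univ (genericPoint X)))
  obtain ⟨z, hz, hzx⟩ : ∃ z ∈ closedPoints X, ∀ i, x i ≠ z := by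
    by_contra hc
    push Not at hc
    exact hinf ((Set.finite_range x).subset fun z hz => hc z hz)
  let U : X.Opens := ⟨({z} : Set X)ᶜ, (show IsClosed ({z} : Set X) from hz).isOpen_compl⟩
  refine ⟨U, Groth.L22.CurveAmple.isAffineOpen_of_boundary k hd.le U (fun η hη => ?_) (fun y hy => ?_),
    fun i => hzx i⟩
  · have h1 : genericPoint X = η := hη _ (genericPoint_specializes η)
    intro h2
    exact hgen_closed (by rw [h1, Set.mem_singleton_iff.1 h2]; exact hz)
  · refine ⟨z, ?_, fun h => h rfl⟩
    have hspec := fun a b c => Groth.L21.RR.Top.spec_of_dim_le_one (X := X.toTopCat) hd.le a b c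
    by_cases hyg : y = genericPoint X
    · rw [hyg]; exact genericPoint_specializes z
    · refine absurd ?_ hy
      refine isClosed_of_closure_subset fun w hw => ?_
      rcases hspec (genericPoint X) y w (genericPoint_specializes y) (specializes_iff_mem_closure.2 hw) with h | h
      · exact absurd h.symm hyg
      · exact h.symm

variable [IsSepClosed k] [Smooth (X ↘ Spec (CommRingCat.of k))]

/-- A smooth proper curve with many rational points is geometrically connected. -/
theorem geometricallyConnected_curve (hd : topologicalKrullDim X = 1) : GeometricallyConnected fX := by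
  refine ⟨fun K _ y Y g q sq => ?_⟩
  letI : Algebra k K := (Spec.preimage y).hom.toAlgebra
  have hy : Spec.map (CommRingCat.ofHom (algebraMap k K)) = y := Spec.map_preimage y
  letI : Y.Over (Spec (CommRingCat.of K)) := ⟨q⟩
  haveI : IsProper (Y ↘ Spec (CommRingCat.of K)) :=
    MorphismProperty.of_isPullback (P := @IsProper) sq inferInstance
  haveI := Groth.L02.Twist.isIntegral_pullback k (Y := Y) (K := K) g (by rw [hy]; exact sq) hd
  infer_instance

/-- Representability of the rigidified Picard functor. -/
theorem rigRepresentable_curve (hd : topologicalKrullDim X = 1)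
    (σ : Spec (CommRingCat.of k) ⟶ X) (hσ : σ ≫ fX = 𝟙 _) : PicF.RigRepresentable fX σ hσ := by
  haveI := Groth.L21.SmoothCurve.smoothOfRelativeDimension_one fX hd
  haveI := geometricallyConnected_curve k hd
  haveI : GeometricallyReduced fX := Groth.L16.SecComp.geometricallyReduced_of_smooth fX
  haveI : Surjective fX := ⟨fun s => ⟨σ s, by rw [← Scheme.Hom.comp_apply, hσ]; rfl⟩⟩
  let f := fX
  have ha : ∀ (T : Over (Spec (CommRingCat.of k))) (U : T.left.Opens), IsIso ((PicF.XTproj f T).app U) :=
    fun T U => Groth.L20.DescLocus.isIso_app_baseChange f T.left T.hom U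
  let s₀ : ↥(Spec (CommRingCat.of k)) := IsLocalRing.closedPoint k
  let g : ℕ := (letI := Groth.Agent.Elliptic.fibOver f s₀
    Groth.L21.RR.h ((Spec (CommRingCat.of k)).residueField s₀) 1 (Coh.structureModule (f.fiber s₀)))
  have hg : GenusEq f g := fun s => by
    obtain rfl : s = s₀ := Subsingleton.elim (α := PrimeSpectrum k) _ _
    rfl
  obtain ⟨H, Z, hZ⟩ := Groth.Agent.S1166.result f g fun s x _ => exists_affine_tuple k hd x
  have hfin : ∀ x : ↥X, ∃ W : X.Opens, x ∈ W ∧
      {C : Set ↥X | C ∈ irreducibleComponents ↥X ∧ (C ∩ (W : Set ↥X)).Nonempty}.Finite := fun x => by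
    haveI := Groth.L21.RR.isNoetherian_of_proper (X := X) k
    exact ⟨⊤, trivial, NoetherianSpace.finite_irreducibleComponents.subset fun C hC => hC.1⟩
  let e : _root_.Mero.Divisor X → (PicF.Cl X)ˣ := fun D =>
    (exists_invU (c := PicF.cl (_root_.Mero.divMod D)) ⟨_, rfl, Groth.L21.Mero.isInvertible_divMod D⟩).choose
  have he : ∀ D, e D ∈ invU X := fun D =>
    (exists_invU (c := PicF.cl (_root_.Mero.divMod D)) ⟨_, rfl, Groth.L21.Mero.isInvertible_divMod D⟩).choose_spec.1
  have hev : ∀ D, (e D : PicF.Cl X) = PicF.cl (_root_.Mero.divMod D) := fun D =>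
    (exists_invU (c := PicF.cl (_root_.Mero.divMod D)) ⟨_, rfl, Groth.L21.Mero.isInvertible_divMod D⟩).choose_spec.2
  refine rigRepresentable_of_charts σ hσ Z hg hZ ha e he fun T x t => ?_
  obtain ⟨L, hLx, hL⟩ := x.2.1.1
  let q := PicF.XTproj f T
  let K : Type u := T.left.residueField t
  letI : Algebra k K := (Spec.preimage (T.left.fromSpecResidueField t ≫ T.hom)).hom.toAlgebra
  have hK : Spec.map (CommRingCat.ofHom (algebraMap k K)) = T.left.fromSpecResidueField t ≫ T.hom :=
    Spec.map_preimage _
  let XK : Scheme.{u} := q.fiber t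
  letI : XK.Over (Spec (CommRingCat.of K)) := ⟨q.fiberToSpecResidueField t⟩
  let gK : XK ⟶ X := q.fiberι t ≫ pullback.fst f T.hom
  have hpb : IsPullback gK (XK ↘ Spec (CommRingCat.of K)) f (Spec.map (CommRingCat.ofHom (algebraMap k K))) := by
    rw [hK]
    exact (IsPullback.of_hasPullback q (T.left.fromSpecResidueField t)).paste_horiz
      (IsPullback.of_hasPullback f T.hom)
  obtain ⟨L₀, hL₀, h0, h1⟩ := Groth.Agent.S6487.result k X ⟨inferInstance, inferInstance, inferInstance, hd⟩
    K XK gK hpb ((Scheme.Modules.pullback (q.fiberι t)).obj L) (Groth.L18.Ample.isInvertible_pullback _ hL)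
  obtain ⟨D, ⟨iD⟩⟩ := Groth.L21.Mero.exists_iso_divMod_of_reduced hfin hL₀
  refine ⟨D, ?_⟩
  show t ∈ goodSet f T ((x.1 * eR f σ hσ (e D) T : (PicF.Cl (PicF.XT f T))ˣ) : PicF.Cl (PicF.XT f T))
  let η := Units.map (Groth.L08.Cube.pullClHom (pullback.fst f T.hom)) (e D)
  have hη : η ∈ invU _ := map_mem_invU _ (he D)
  rw [show x.1 * eR f σ hσ (e D) T = nrm σ hσ T (x.1 * η) by rw [map_mul, nrm_of_mem σ hσ x.2]; rfl,
    goodSet_nrm σ hσ ((invU _).mul_mem x.2.1 hη)]
  let F₀ := (Scheme.Modules.pullback (pullback.fst f T.hom)).obj L₀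
  have hcl : PicF.cl (CohB1.tensorMod L F₀) = ((x.1 * η : (PicF.Cl (PicF.XT f T))ˣ) : PicF.Cl (PicF.XT f T)) := by
    rw [Units.val_mul, ← hLx]
    show _ = PicF.cl L * PicF.pullCl _ (e D : PicF.Cl X)
    rw [hev, show PicF.cl (_root_.Mero.divMod D) = PicF.cl L₀ from Groth.Agent.AbDualLib.cl_congr iD.symm]
    rfl
  rw [mem_goodSet_iff hcl]
  let iso : (Scheme.Modules.pullback (q.fiberι t)).obj (CohB1.tensorMod L F₀) ≅
      CohB1.tensorMod ((Scheme.Modules.pullback (q.fiberι t)).obj L) ((Scheme.Modules.pullback gK).obj L₀) :=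
    (Groth.L29.DC.PullTensor.pullTensor (q.fiberι t) _ _).symm ≪≫
      Groth.L00.Tensor.tensorIso (Iso.refl _) ((Scheme.Modules.pullbackComp _ _).app L₀)
  constructor
  · show Module.finrank K (Coh.HH XK ((Scheme.Modules.pullback (q.fiberι t)).obj (CohB1.tensorMod L F₀)) 1) = 0
    rw [Groth.L03.Euler.finrank_HH_of_iso (k := K) iso 1]
    haveI := h1
    exact Module.finrank_zero_of_subsingleton
  · show Module.finrank K (Coh.HH XK ((Scheme.Modules.pullback (q.fiberι t)).obj (CohB1.tensorMod L F₀)) 0) = 1
    rw [Groth.L03.Euler.finrank_HH_of_iso (k := K) iso 0]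
    exact h0

end Groth.Agent.L26.PicRep
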