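import Groth.Agent.L26.Elliptic.DegreeOne
import Groth.Agent.L26.KL.RankScheme
import Groth.Agent.L02.Hilb.CurvePoints
import Groth.Agent.L02.RelCartier.DegAdd

/-!
# Fibrewise non special modules with one section define relative divisors

For a proper smooth family of connected curves of genus `g`, an invertible module whose fibres have no
first cohomology and a one dimensional space of sections is, up to the base, the inverse of the ideal
of exactly one relative effective divisor of degree `g`.
-/

set_option autoImplicit false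
set_option linter.style.haveILetI false
set_option linter.unusedSectionVars false
set_option backward.isDefEq.respectTransparency false
set_option backward.isDefEq.respectTransparency.types false

universe u

open CategoryTheory CategoryTheory.Limits AlgebraicGeometry TopologicalSpace
open Groth.L18.Frame (rs rs_self)
open Groth.L18.GenLoc (secOf)
open Groth.L00.Tensor (tensorMap tensorIso tensorUnitRight tensorUnitLeft tensorAssoc tensorComm)

noncomputable section

namespace Groth.Agent.L26.PicRep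

open Groth.Agent.Elliptic
attribute [local instance] Groth.Agent.Elliptic.fibOver

section Field

variable (k : Type u) [Field k] {X : Scheme.{u}} [X.Over (Spec (CommRingCat.of k))]

/-- The rank of a finite scheme over a field is the dimension of its global functions in cohomology. -/
theorem finrank_HH_zero_finite {Z : Scheme.{u}} [Z.Over (Spec (CommRingCat.of k))]
    [IsFinite (Z ↘ Spec (CommRingCat.of k))] (s : Spec (CommRingCat.of k)) :
    Module.finrank k (Coh.HH Z (Coh.structureModule Z) 0) =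
      (Z ↘ Spec (CommRingCat.of k)).finrank s := by
  let j := Z ↘ Spec (CommRingCat.of k)
  let T : Over (Spec (CommRingCat.of k)) := Over.mk j
  haveI : IsFinite T.hom := ‹IsFinite (Z ↘ Spec (CommRingCat.of k))›
  refine Eq.trans ?_ (Groth.Agent.KLRank.finrank_hom_eq T s).symm
  let hT : IsTerminal (⊤ : Opens Z) := IsTerminal.ofUniqueHom (fun U => homOfLE le_top) (fun _ _ => rfl)
  let e : Coh.HH Z (Coh.structureModule Z) 0 ≃+ Coh.Γtop Z :=
    Sheaf.H.equiv₀ (Coh.toAb (Coh.structureModule Z)) hT
  have he : ∀ (c : k) x, e (c • x) = Coh.toGlobal j c * e x := fun c x => by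
    show Sheaf.H.equiv₀ _ hT (Sheaf.H.map (Coh.smulAb (Coh.structureModule Z) _) 0 x) = _
    rw [← Sheaf.H.equiv₀_naturality]
    refine (Coh.smulAb_app (Coh.structureModule Z) _ (Opposite.op ⊤) _).trans ?_
    show Coh.resTop Z (Opposite.op ⊤) _ * _ = _
    congr 1
    simp [Coh.resTop]
    rfl
  letI := Groth.Agent.KLRank.gamma T
  let E : Coh.HH Z (Coh.structureModule Z) 0 ≃ₗ[k] Γ(T.left, ⊤) :=
    { e with map_smul' := fun c x => (he c x).trans (Algebra.smul_def (R := k) (A := Γ(T.left, ⊤)) c (e x)).symm }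
  exact E.finrank_eq

variable [IsProper (X ↘ Spec (CommRingCat.of k))] [Smooth (X ↘ Spec (CommRingCat.of k))] [IsIntegral X]

/-- A nonzero section of an invertible module vanishes on a finite scheme of rank the degree. -/
theorem finrank_zeroScheme_eq_deg (hd : topologicalKrullDim X = 1) {N : X.Modules} (hN : PicF.IsInvertible N)
    {d : ℕ} (hdeg : Curv2.deg k X N 1 = d) {φ : Coh.structureModule X ⟶ N} (hφ : φ ≠ 0) :
    BlowUp.IsEffCartierIdeal (PicF2.zeroScheme N φ) ∧
      IsFinite ((PicF2.zeroScheme N φ).subschemeι ≫ (X ↘ Spec (CommRingCat.of k))) ∧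
      ∀ s, ((PicF2.zeroScheme N φ).subschemeι ≫ (X ↘ Spec (CommRingCat.of k))).finrank s = d := by
  haveI := Groth.L21.RR.isNoetherian_of_proper (X := X) k
  set Z := PicF2.zeroScheme N φ
  have heff : BlowUp.IsEffCartierIdeal Z := Groth.L21.Mero.isEffCartier_zeroScheme hN hφ
  haveI := Groth.L21.SmoothCurve.smoothOfRelativeDimension_one (X ↘ Spec (CommRingCat.of k)) hd
  haveI := Groth.L02.RelCartier.lqf_of_eff (X ↘ Spec (CommRingCat.of k)) Z heff
  haveI hfin : IsFinite (Z.subschemeι ≫ (X ↘ Spec (CommRingCat.of k))) :=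
    IsFinite.of_isProper_of_locallyQuasiFinite _
  refine ⟨heff, hfin, fun s => ?_⟩
  have hI : PicF.IsInvertible (ClSub.idealMod Z) := (Groth.Agent.L19.IdealInvertible.isEffCartier_iff Z).2 heff
  obtain ⟨j⟩ := nonempty_tensor_zeroScheme hN φ heff
  have h1 : Curv2.deg k X (ClSub.idealMod Z) 1 + Curv2.deg k X N 1 = 0 := by
    rw [← Groth.L21.Duality.deg_tensor hd hI hN, Groth.L21.RR.deg_congr k j 1, Groth.L22.CurveDeg.deg_structure]
  have h2 := Groth.L03.SurfAdj.euler_quotMod k Z hI
  have h3 := Groth.L03.SurfAdj.euler_subscheme k Z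
  letI : Z.subscheme.Over (Spec (CommRingCat.of k)) := ⟨Z.subschemeι ≫ (X ↘ (Spec (CommRingCat.of k)))⟩
  haveI : IsFinite (Z.subscheme ↘ Spec (CommRingCat.of k)) := hfin
  haveI : IsAffine Z.subscheme := isAffine_of_isAffineHom (Z.subscheme ↘ Spec (CommRingCat.of k))
  have hd0 : topologicalKrullDim Z.subscheme ≤ 1 :=
    Z.subschemeι.isClosedEmbedding.isInducing.topologicalKrullDim_le.trans hd.le
  haveI : Coh.IsQCoh (Coh.structureModule Z.subscheme) :=
    Groth.L21.Extend.isQCoh_of_isInvertible (Groth.L18.Ample.isInvertible_structureModule _)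
  haveI hH1 : Subsingleton (Coh.HH Z.subscheme (Coh.structureModule Z.subscheme) 1) :=
    Groth.L17.subsingleton_HH_of_isAffine Z.subscheme (Coh.structureModule Z.subscheme) 0
  have h4 : Curv2.euler k Z.subscheme (Coh.structureModule Z.subscheme) =
      (Module.finrank k (Coh.HH Z.subscheme (Coh.structureModule Z.subscheme) 0) : ℤ) := by
    rw [Groth.L21.RR.euler_eq k hd0, Groth.L21.RR.h_eq_zero_of_subsingleton k hH1]
    simp [Groth.L21.RR.h]
  rw [finrank_HH_zero_finite k s] at h4
  rw [Curv2.deg, Curv2.deg] at h1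
  rw [Curv2.deg] at hdeg
  push_cast at h1 hdeg
  show (Z.subscheme ↘ Spec (CommRingCat.of k)).finrank s = d
  omega

end Field

variable {E S : Scheme.{u}} (f : E ⟶ S)

/-- Fibrewise no first cohomology and a one dimensional space of sections. -/
def Good (L : E.Modules) : Prop :=
  ∀ s : S, Subsingleton (CohIII.fiberH f L s 1) ∧ CohIII.fiberRank f L 0 s = 1

/-- All fibres have genus `g`. -/
def GenusEq (g : ℕ) : Prop :=
  ∀ s : S, Groth.L21.RR.h (S.residueField s) 1 (Coh.structureModule (f.fiber s)) = g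

variable [IsProper f] [SmoothOfRelativeDimension 1 f] [GeometricallyConnected f]

variable {f} {L : E.Modules}

theorem Good.congr (h : Good f L) {L' : E.Modules} (e : L ≅ L') : Good f L' := fun s => by
  let e' := (Scheme.Modules.pullback (f.fiberι s)).mapIso e
  refine ⟨Groth.L22.EnrSev.subsingleton_of_iso e' 1 (h s).1, ?_⟩
  show Groth.L21.RR.h (S.residueField s) 0 ((Scheme.Modules.pullback (f.fiberι s)).obj L') = 1
  rw [Groth.L21.RR.h, ← Groth.L03.Euler.finrank_HH_of_iso (k := S.residueField s) e' 0]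
  exact (h s).2

theorem Good.tensor_base (h : Good f L) {M : S.Modules} (hM : PicF.IsInvertible M) :
    Good f (CohB1.tensorMod ((Scheme.Modules.pullback f).obj M) L) := fun s => by
  obtain ⟨i⟩ := nonempty_fibre_base (f := f) hM s
  let e : (Scheme.Modules.pullback (f.fiberι s)).obj L ≅
      (Scheme.Modules.pullback (f.fiberι s)).obj (CohB1.tensorMod ((Scheme.Modules.pullback f).obj M) L) :=
    (tensorUnitLeft _).symm ≪≫ tensorIso i.symm (Iso.refl _) ≪≫
      Groth.L29.DC.PullTensor.pullTensor (f.fiberι s) _ _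
  refine ⟨Groth.L22.EnrSev.subsingleton_of_iso e 1 (h s).1, ?_⟩
  show Groth.L21.RR.h (S.residueField s) 0 _ = 1
  rw [Groth.L21.RR.h, ← Groth.L03.Euler.finrank_HH_of_iso (k := S.residueField s) e 0]
  exact (h s).2

theorem Good.deg {g : ℕ} (hg : GenusEq f g) (h : Good f L) (s : S) :
    Curv2.deg (S.residueField s) (f.fiber s) ((Scheme.Modules.pullback (f.fiberι s)).obj L) 1 = g := by
  haveI := isProper_fibre f s
  have h1 : Groth.L21.RR.h (S.residueField s) 1 ((Scheme.Modules.pullback (f.fiberι s)).obj L) = 0 :=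
    Groth.L21.RR.h_eq_zero_of_subsingleton (S.residueField s) (h s).1
  have h0 : Groth.L21.RR.h (S.residueField s) 0 ((Scheme.Modules.pullback (f.fiberι s)).obj L) = 1 := (h s).2
  rw [Curv2.deg, Groth.L21.RR.euler_eq (S.residueField s) (dim_fibre f s).le,
    Groth.L21.RR.euler_eq (S.residueField s) (dim_fibre f s).le, h0_fibre f s, hg s, h0, h1]
  push_cast
  ring

theorem split_all [Coh.IsQCoh L] [HasInjectiveResolutions E.Modules] (hL : PicF.IsInvertible L) (h : Good f L) :
    ∀ y ∈ (⊤ : S.Opens), ∃ (V : S.Opens) (hV : IsAffineOpen V) (l : Groth.L17.BC.Classes.FreeBC0 f L V),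
      y ∈ V ∧ ∀ y' (hy' : y' ∈ V), y' ∈ (⊤ : S.Opens) → l.free.Split hV 0 hy' := by
  haveI : Smooth f := SmoothOfRelativeDimension.smooth 1 f
  exact Groth.L17.BC.Classes.forall_split0_of_vanishing f L
    (Groth.L18.LFP.isFP_of_isFinLocFree _ (Groth.L16.Existence.isFinLocFree_of_isInvertible hL))
    (Groth.L29.DC.RelTor.isFlatOver_of_isFlat f (Groth.L21.RR.isFlat_of_isInvertible hL)) ⊤
    fun y _ => (h y).1

/-- The direct image is invertible. -/
theorem isInvertible_push (hL : PicF.IsInvertible L) (h : Good f L) :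
    PicF.IsInvertible ((Scheme.Modules.pushforward f).obj L) := by
  haveI : Smooth f := SmoothOfRelativeDimension.smooth 1 f
  haveI := Groth.L17.PushQCoh.hasInjectiveResolutions E
  haveI : Coh.IsQCoh L := Groth.L21.Extend.isQCoh_of_isInvertible hL
  have hfp := Groth.L18.LFP.isFP_of_isFinLocFree _ (Groth.L16.Existence.isFinLocFree_of_isInvertible hL)
  have hfl := Groth.L29.DC.RelTor.isFlatOver_of_isFlat f (Groth.L21.RR.isFlat_of_isInvertible hL)
  obtain ⟨Δ⟩ := Groth.L17.BC.Classes.nonempty_derivedLES f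
  refine Groth.L21.Bundle.isInvertible_of_rank fun y => ?_
  obtain ⟨V, hV, l, hyV, hl⟩ := split_all hL h y trivial
  obtain ⟨W, hyW, hW, -⟩ := l.exists_locFree hV Δ hyV (hl y hyV trivial)
  obtain ⟨U, n, hyU, ⟨i⟩⟩ := hW y hyW
  obtain ⟨_, ⟨V', hV', rfl⟩, hyV', hV'U⟩ := S.isBasis_affineOpens.exists_subset_of_mem_open hyU U.2
  obtain ⟨l'⟩ := Groth.L17.BC.Classes.nonempty_freeBC0 f L hV' hfp hfl
  have hn := l'.fiberRank_eq_of_restrict hV' hV'U i hyV' (l'.split_of_vanishing hV' hyV' (h y).1)
  rw [(h y).2] at hn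
  subst hn
  exact ⟨U, hyU, ⟨i⟩⟩

/-- The canonical section is nonzero on every fibre. -/
theorem canSec_fibre_ne_zero {N : E.Modules} (e : (Scheme.Modules.pushforward f).obj N ≅ Coh.structureModule S)
    (hN : PicF.IsInvertible N) (h : Good f N) (s : S) :
    Groth.L18.Ample.pullHom (f.fiberι s) (canSec f e) ≠ 0 := by
  haveI : Smooth f := SmoothOfRelativeDimension.smooth 1 f
  haveI := Groth.L17.PushQCoh.hasInjectiveResolutions E
  haveI : Coh.IsQCoh N := Groth.L21.Extend.isQCoh_of_isInvertible hN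
  let g := S.fromSpecResidueField s
  haveI : IsIso (CohBC.bc0 f g (f.fiberToSpecResidueField s) (f.fiberι s) (f.fiber_fac s) N) :=
    Groth.L17.BC.Classes.isIso_bc0 (f := f) (F := N) (U := ⊤) (IsPullback.of_hasPullback f g) (fun _ => trivial)
      (split_all hN h)
  let q := f.fiberToSpecResidueField s
  let Ns := (Scheme.Modules.pullback (f.fiberι s)).obj N
  intro h0
  rw [pullHom_eq, canSec] at h0
  simp only [Functor.map_comp, ← Category.assoc] at h0
  have h1 : (Scheme.Modules.pullback (f.fiberι s)).map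
      ((Scheme.Modules.pullbackPushforwardAdjunction f).counit.app N) = 0 := zero_of_epi_comp _ h0
  rw [Groth.L20.DescLocus.pullback_counit f g q (f.fiberι s) (f.fiber_fac s) N] at h1
  rw [← Category.assoc] at h1
  have h2 : (Scheme.Modules.pullbackPushforwardAdjunction q).counit.app Ns = 0 := zero_of_epi_comp _ h1
  have h3 := (Scheme.Modules.pullbackPushforwardAdjunction q).right_triangle_components Ns
  rw [h2] at h3
  haveI : (Scheme.Modules.pushforward q).IsRightAdjoint :=
    (Scheme.Modules.pullbackPushforwardAdjunction q).isRightAdjoint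
  rw [Functor.map_zero, comp_zero] at h3
  let j : (Scheme.Modules.pushforward q).obj Ns ≅ Coh.structureModule (Spec (S.residueField s)) :=
    (asIso (CohBC.bc0 f g q (f.fiberι s) (f.fiber_fac s) N)).symm ≪≫ (Scheme.Modules.pullback g).mapIso e ≪≫
      Groth.L29.LocFree.pullbackUnitIso g
  have h4 : 𝟙 (Coh.structureModule (Spec (S.residueField s))) = 0 := by
    rw [← j.inv_hom_id, ← Category.id_comp j.hom]
    erw [← h3]
    simp
  have h5 := congr($(h4).app ⊤ (1 : Γ(Spec (S.residueField s), ⊤)))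
  exact one_ne_zero (α := Γ(Spec (S.residueField s), ⊤)) h5

/-- The zeros of the canonical section form a relative divisor of degree `g`. -/
theorem zeroScheme_canSec {g : ℕ} (hg : GenusEq f g) {N : E.Modules}
    (e : (Scheme.Modules.pushforward f).obj N ≅ Coh.structureModule S) (hN : PicF.IsInvertible N) (h : Good f N) :
    BlowUp.IsEffCartierIdeal (PicF2.zeroScheme N (canSec f e)) ∧
      Mor2.IsFinLocFreeOfDeg g ((PicF2.zeroScheme N (canSec f e)).subschemeι ≫ f) := by
  haveI : Smooth f := SmoothOfRelativeDimension.smooth 1 f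
  set φ := canSec f e
  set Z := PicF2.zeroScheme N φ
  have hfib : ∀ s, BlowUp.IsEffCartierIdeal (Z.comap (f.fiberι s)) ∧
      IsFinite ((Z.comap (f.fiberι s)).subschemeι ≫ f.fiberToSpecResidueField s) ∧
      ∀ t, ((Z.comap (f.fiberι s)).subschemeι ≫ f.fiberToSpecResidueField s).finrank t = g := by
    intro s
    haveI := isProper_fibre f s
    haveI := smooth_fibre f s
    haveI := isIntegral_fibre f s
    rw [zeroScheme_comap (f.fiberι s) hN φ]
    exact finrank_zeroScheme_eq_deg (S.residueField s) (dim_fibre f s)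
      (Groth.L18.Ample.isInvertible_pullback _ hN) (h.deg hg s) (canSec_fibre_ne_zero e hN h s)
  have hlp : Curv2.IsLocPrincipal Z := fun x _ => by
    obtain ⟨U, t, hxU, -, ht⟩ := Groth.L21.Mero.exists_frame_affine hN x (O := ⊤) trivial
    obtain ⟨a, ha⟩ := ht.exists_coeff le_rfl (rs N (le_top : U.1 ≤ ⊤) (secOf φ))
    rw [rs_self] at ha
    exact ⟨U, hxU, a, Groth.L21.Mero.zeroScheme_ideal_frame hN φ U ht ha⟩
  obtain ⟨heff, hflat⟩ := Groth.L02.RelCartier.main_locPrincipal f Z hlp fun s => (hfib s).1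
  haveI := hflat
  haveI := Groth.L02.RelCartier.lqf_of_eff_rel f Z heff
  haveI := Groth.L02.RelCartier.lfp_of_eff_rel f Z heff
  haveI : IsFinite (Z.subschemeι ≫ f) := IsFinite.of_isProper_of_locallyQuasiFinite _
  refine ⟨heff, ⟨inferInstance, inferInstance, inferInstance⟩, fun s => ?_⟩
  have sq := Groth.L02.RelCartier.isPullback_comap_subscheme f Z s
  have h' := (hfib s).2.2 (IsLocalRing.closedPoint (S.residueField s))
  rw [Scheme.Hom.finrank_of_isPullback _ _ _ _ sq, Scheme.fromSpecResidueField_apply] at h'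
  exact h'

/-- A good module is, up to the base, the ideal inverse of exactly one relative divisor. -/
theorem existsUnique_divisor {g : ℕ} (hg : GenusEq f g) (hL : PicF.IsInvertible L) (h : Good f L) :
    ∃! I : E.IdealSheafData, Mor2.IsFinLocFreeOfDeg g (I.subschemeι ≫ f) ∧ ∃ M : S.Modules, PicF.IsInvertible M ∧
      Nonempty (CohB1.tensorMod L (ClSub.idealMod I) ≅ (Scheme.Modules.pullback f).obj M) := by
  set M := (Scheme.Modules.pushforward f).obj L
  have hM : PicF.IsInvertible M := isInvertible_push hL h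
  obtain ⟨M', hM', ⟨eM⟩⟩ := Groth.L08.Cube.exists_inverse hM
  set pM' := (Scheme.Modules.pullback f).obj M'
  set N := CohB1.tensorMod pM' L
  have hN : PicF.IsInvertible N :=
    Groth.L18.GenLoc.isInvertible_tensor (Groth.L18.Ample.isInvertible_pullback f hM') hL
  have hdN : Good f N := h.tensor_base hM'
  let e : (Scheme.Modules.pushforward f).obj N ≅ Coh.structureModule S :=
    ((Groth.L17.ProjFormula.projIso f M' (Groth.L16.Existence.isFinLocFree_of_isInvertible hM')).app L).symm ≪≫
      tensorComm M' M ≪≫ eM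
  obtain ⟨heff, hfl⟩ := zeroScheme_canSec hg e hN hdN
  refine ⟨PicF2.zeroScheme N (canSec f e), ⟨hfl, M, hM, ?_⟩, fun I ⟨hI, M₂, hM₂, ⟨i⟩⟩ => ?_⟩
  · obtain ⟨j⟩ := nonempty_tensor_zeroScheme hN (canSec f e) heff
    exact ⟨(tensorUnitLeft _).symm ≪≫
      tensorIso ((Groth.L29.LocFree.pullbackUnitIso f).symm ≪≫ (Scheme.Modules.pullback f).mapIso eM.symm ≪≫
        (Groth.L29.DC.PullTensor.pullTensor f M M').symm) (Iso.refl _) ≪≫
      tensorAssoc _ _ _ ≪≫
      tensorIso (Iso.refl _) ((tensorAssoc pM' L _).symm ≪≫ tensorComm _ _ ≪≫ j) ≪≫ tensorUnitRight _⟩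
  · let θ : CohB1.tensorMod N (ClSub.idealMod I) ⟶ N :=
      tensorMap (𝟙 N) (ClSub.idealModι I) ≫ (tensorUnitRight N).hom
    let i' : CohB1.tensorMod N (ClSub.idealMod I) ≅ (Scheme.Modules.pullback f).obj (CohB1.tensorMod M' M₂) :=
      tensorAssoc pM' L _ ≪≫ tensorIso (Iso.refl _) i ≪≫ Groth.L29.DC.PullTensor.pullTensor f M' M₂
    obtain ⟨γ, hγ⟩ := exists_factor e (i'.inv ≫ θ)
    have hle := le_zeroScheme_of_factor hN (canSec f e) I (i'.hom ≫ γ)
      (by rw [Category.assoc, ← hγ, Iso.hom_inv_id_assoc])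
    obtain ⟨J, hJ, hJeq⟩ := Groth.L02.RelCartier.exists_isFinLocFreeOfDeg_quot f
      (PicF2.zeroScheme N (canSec f e)) I hle g g hfl hI
    rw [Nat.sub_self] at hJ
    rw [hJeq, Groth.L02.Hilb.eq_top_of_deg_zero f J hJ]
    exact mul_one _

end Groth.Agent.L26.PicRep
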