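import Groth.Agent.L26.PicRep.GoodCl
import Groth.Agent.L02.Hilb.Fam

/-!
# The rigidified class of a relative divisor
-/

set_option autoImplicit false
set_option linter.style.haveILetI false
set_option linter.unusedSectionVars false
set_option backward.isDefEq.respectTransparency false
set_option backward.isDefEq.respectTransparency.types false

universe u

open CategoryTheory CategoryTheory.Limits AlgebraicGeometry
open Groth.Agent.AbDualLib

noncomputable section

namespace Groth.Agent.L26.PicRep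

open Groth.Agent.Elliptic
attribute [local instance] Groth.L08.Cube.clMonoid

variable {X S : Scheme.{u}} {f : X ⟶ S} [IsProper f] [SmoothOfRelativeDimension 1 f] [GeometricallyConnected f]
  {T T' : Over S} {g : ℕ}

theorem isInvertible_idealMod_obj (Z : HilbD.Obj f g T) : PicF.IsInvertible (ClSub.idealMod Z.1) := by
  haveI := Groth.L02.Hilb.smooth_XTproj f T
  exact (Groth.Agent.L19.IdealInvertible.isEffCartier_iff Z.1).2
    ((Groth.L02.RelCartier.main_curve (PicF.XTproj f T) Z.1).2 Z.2.1).1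

/-- The unit of the ideal of a relative divisor. -/
def uId (Z : HilbD.Obj f g T) : (PicF.Cl (PicF.XT f T))ˣ :=
  (exists_invU (c := PicF.cl (ClSub.idealMod Z.1)) ⟨_, rfl, isInvertible_idealMod_obj Z⟩).choose

theorem uId_mem (Z : HilbD.Obj f g T) : uId Z ∈ invU _ :=
  (exists_invU (c := PicF.cl (ClSub.idealMod Z.1)) ⟨_, rfl, isInvertible_idealMod_obj Z⟩).choose_spec.1

theorem val_uId (Z : HilbD.Obj f g T) : (uId Z : PicF.Cl (PicF.XT f T)) = PicF.cl (ClSub.idealMod Z.1) :=
  (exists_invU (c := PicF.cl (ClSub.idealMod Z.1)) ⟨_, rfl, isInvertible_idealMod_obj Z⟩).choose_spec.2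

theorem mp_uId (q : T' ⟶ T) (Z : HilbD.Obj f g T) :
    mp f q (uId Z) = uId (Groth.L02.Hilb.pullObj f q Z) := by
  refine Units.ext ?_
  show PicF.pullCl (PicF.XTmap f q) (uId Z : PicF.Cl (PicF.XT f T)) = _
  rw [val_uId, val_uId]
  have hc : Z.1.comap (PicF.XTmap f q) = (Groth.L02.Hilb.pullObj f q Z).1 := (Groth.L02.Hilb.pull_eq f q Z.1).symm
  obtain ⟨α, -, hα, -⟩ := Groth.L07.PrinParts.exists_idealMap (PicF.XTmap f q) Z.1 _ hc.symm
  haveI := hα
  haveI := Groth.L02.Canon.DescInvertible.isIso_of_epi_invertible α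
    (Groth.L18.Ample.isInvertible_pullback _ (isInvertible_idealMod_obj Z)) (isInvertible_idealMod_obj _)
  exact cl_congr (asIso α)

variable (σ : S ⟶ X) (hσ : σ ≫ f = 𝟙 S)

/-- The rigidified inverse of the ideal of a divisor. -/
def clsDiv (Z : HilbD.Obj f g T) : (PicF.Cl (PicF.XT f T))ˣ := (nrm σ hσ T (uId Z))⁻¹

theorem clsDiv_mem (Z : HilbD.Obj f g T) : clsDiv σ hσ Z ∈ rigSub f σ hσ T :=
  (rigSub f σ hσ T).inv_mem (nrm_mem σ hσ (uId_mem Z))

theorem mp_clsDiv (q : T' ⟶ T) (Z : HilbD.Obj f g T) :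
    mp f q (clsDiv σ hσ Z) = clsDiv σ hσ (Groth.L02.Hilb.pullObj f q Z) := by
  rw [clsDiv, map_inv, mp_nrm, mp_uId]
  rfl

/-- A good rigidified class is the class of exactly one divisor. -/
theorem existsUnique_clsDiv (hg : GenusEq f g) {x : (PicF.Cl (PicF.XT f T))ˣ} (hx : x ∈ rigSub f σ hσ T)
    (hgood : goodSet f T (x : PicF.Cl (PicF.XT f T)) = Set.univ) :
    ∃! Z : HilbD.Obj f g T, clsDiv σ hσ Z = x := by
  haveI := Groth.L02.Hilb.smooth_XTproj f T
  haveI : GeometricallyConnected (PicF.XTproj f T) := inferInstanceAs (GeometricallyConnected (pullback.snd f T.hom))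
  haveI : IsProper (PicF.XTproj f T) := inferInstanceAs (IsProper (pullback.snd f T.hom))
  obtain ⟨L, hLx, hL⟩ := hx.1.1
  rw [← hLx] at hgood
  obtain ⟨I, ⟨hI, hIM⟩, huniq⟩ := existsUnique_divisor (hg.baseChange T) hL (good_of_goodSet hL hgood)
  have key : ∀ Z : HilbD.Obj f g T, clsDiv σ hσ Z = x ↔ ∃ M : T.left.Modules, PicF.IsInvertible M ∧
      Nonempty (CohB1.tensorMod L (ClSub.idealMod Z.1) ≅ (Scheme.Modules.pullback (PicF.XTproj f T)).obj M) := by
    intro Z
    rw [clsDiv, inv_eq_iff_mul_eq_one]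
    conv_lhs => rw [← nrm_of_mem σ hσ hx, ← map_mul, mul_comm,
      ← mem_baseSub_iff σ hσ ((invU _).mul_mem hx.1 (uId_mem Z))]
    refine exists_congr fun M => and_congr_right fun _ => ?_
    rw [Units.val_mul, val_uId, ← hLx, ← PicGrp.cl_eq_cl_iff]
    rfl
  exact ⟨⟨I, hI⟩, (key _).2 hIM, fun Z hZ => Subtype.ext (huniq _ ⟨Z.2, (key Z).1 hZ⟩)⟩

end Groth.Agent.L26.PicRep
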